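import Cfsg.Agent.Spor.HeN1.D0

set_option autoImplicit false
set_option maxRecDepth 100000000
set_option Elab.async false

namespace Cfsg.Agent.Spor.HeN1

theorem ok0 : Net.okb 1 n0 = true := by decide +kernel

theorem ok1 : Net.okb 1 n1 = true := by decide +kernel

theorem ok2 : Net.okb 1 n2 = true := by decide +kernel

theorem ok3 : Net.okb 1 n3 = true := by decide +kernel

theorem ok4 : Net.okb 1 n4 = true := by decide +kernel

theorem ok5 : Net.okb 1 n5 = true := by decide +kernel

theorem ok6 : Net.okb 1 n6 = true := by decide +kernel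

theorem rel0 : T.rel 1 [1, 1] 0 1 = true := by decide +kernel

theorem rel1 : T.rel 1 [2, 2] 0 1 = true := by decide +kernel

theorem rel2 : T.rel 1 [3, 3] 0 1 = true := by decide +kernel

theorem rel3 : T.rel 1 [4, 4] 0 1 = true := by decide +kernel

theorem rel4 : T.rel 1 [5, 5] 0 1 = true := by decide +kernel

theorem rel5 : T.rel 1 [6, 6] 0 1 = true := by decide +kernel

theorem rel6 : T.rel 1 [7, 7] 0 1 = true := by decide +kernel

theorem rel7 : T.rel 1 [2, 1, 2, 1, 2, 1, 2, 1] 0 1 = true := by decide +kernel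

theorem rel8 : T.rel 1 [3, 1, 3, 1] 0 1 = true := by decide +kernel

theorem rel9 : T.rel 1 [4, 1, 4, 1] 0 1 = true := by decide +kernel

theorem rel10 : T.rel 1 [5, 1, 5, 1] 0 1 = true := by decide +kernel

theorem rel11 : T.rel 1 [6, 1, 6, 1] 0 1 = true := by decide +kernel

theorem rel12 : T.rel 1 [7, 1, 7, 1] 0 1 = true := by decide +kernel

theorem rel13 : T.rel 1 [3, 2, 3, 2, 3, 2] 0 1 = true := by decide +kernel

theorem rel14 : T.rel 1 [4, 2, 4, 2] 0 1 = true := by decide +kernel

theorem rel15 : T.rel 1 [5, 2, 5, 2] 0 1 = true := by decide +kernel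

theorem rel16 : T.rel 1 [6, 2, 6, 2] 0 1 = true := by decide +kernel

theorem rel17 : T.rel 1 [7, 2, 7, 2] 0 1 = true := by decide +kernel

theorem rel18 : T.rel 1 [4, 3, 4, 3, 4, 3, 4, 3, 4, 3, 4, 3, 4, 3, 4, 3, 4, 3, 4, 3] 0 1 = true := by decide +kernel

theorem rel19 : T.rel 1 [5, 3, 5, 3] 0 1 = true := by decide +kernel

theorem rel20 : T.rel 1 [6, 3, 6, 3] 0 1 = true := by decide +kernel

theorem rel21 : T.rel 1 [7, 3, 7, 3] 0 1 = true := by decide +kernel

theorem rel22 : T.rel 1 [5, 4, 5, 4, 5, 4] 0 1 = true := by decide +kernel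

theorem rel23 : T.rel 1 [6, 4, 6, 4, 6, 4] 0 1 = true := by decide +kernel

theorem rel24 : T.rel 1 [7, 4, 7, 4, 7, 4] 0 1 = true := by decide +kernel

theorem rel25 : T.rel 1 [6, 5, 6, 5] 0 1 = true := by decide +kernel

theorem rel26 : T.rel 1 [7, 5, 7, 5] 0 1 = true := by decide +kernel

theorem rel27 : T.rel 1 [7, 6, 7, 6, 7, 6, 7, 6] 0 1 = true := by decide +kernel

theorem rel28 : T.rel 1 [6, 7, 6, 7, 5] 0 1 = true := by decide +kernel

theorem rel29 : T.rel 1 [1, 2, 3, 1, 2, 3, 1, 2, 3, 5] 0 1 = true := by decide +kernel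

theorem rel30 : T.rel 1 [3, 4, 3, 4, 3, 4, 3, 4, 3, 4, 1] 0 1 = true := by decide +kernel

theorem rel31 : T.rel 1 [7, 6, 4, 3, 7, 6, 4, 3, 7, 6, 4, 3, 7, 6, 4, 3] 0 1 = true := by decide +kernel

theorem rel32 : T.rel 1 [1] 0 1 = true := by decide +kernel

theorem hcov : T.treeCov (ones 1) L 1 = true := by decide +kernel

theorem hg : lall (fun z => band (memL L z) (band (sub (ones 1) (T.let z).cl) (T.closed (ones 1) z))) gs = true := by decide +kernel

theorem hivk : ivOk (2 * 7) EX IV = true := by decide +kernel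

theorem hrt : RT.ok (2 * 7) EX RL = true := by decide +kernel

theorem hdefs : defs F 84 = true := by decide +kernel

noncomputable def st0_l : List Nat := [nat_lit 0x1, nat_lit 0x8002a402, nat_lit 0x1001, nat_lit 0x5600001002, nat_lit 0x60005780001c03, nat_lit 0x80005780002403, nat_lit 0xa0005780002c03, nat_lit 0xe0005880003c03, nat_lit 0x100000300002c03, nat_lit 0x120000400000803, nat_lit 0xbb000550002e803, nat_lit 0x180000500000803, nat_lit 0xbf000550002f803, nat_lit 0x7001, nat_lit 0x6100007002, nat_lit 0x1e0006280007c03, nat_lit 0x200006280008403, nat_lit 0x200000600003c03, nat_lit 0x220000600004403, nat_lit 0x280005e8000a403, nat_lit 0x2a0000900005c03, nat_lit 0xb80002c000080000580006c05, nat_lit 0x30000608000c403, nat_lit 0x35000060000180005a8000280000e0000d0006280007c09, nat_lit 0x668002e400032000310006b80007806, nat_lit 0xcc0006c80003003, nat_lit 0xb80006d80001803, nat_lit 0x6d00004002, nat_lit 0x180006e80000803, nat_lit 0x1a0006e80002403, nat_lit 0x700000c402, nat_lit 0x700002fc02, nat_lit 0xd30007180005c03,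 nat_lit 0x740000b802, nat_lit 0x7800018000b00000300000800154000e50006b80031c09, nat_lit 0x980001c000de0000780009c05, nat_lit 0xa800176000e60005d0000ac05, nat_lit 0x32000638000cc03, nat_lit 0x34000648000d403, nat_lit 0x360006580009c03, nat_lit 0xf000050000120000a8000b405, nat_lit 0x400006780010403, nat_lit 0x40000140000ac03, nat_lit 0x10801, nat_lit 0x7f00010802, nat_lit 0x7d0001000005000012000590000540005a001000007c0000f00a, nat_lit 0xfc000818000a003, nat_lit 0xd00008280004803, nat_lit 0x208000f0000828002ec04, nat_lit 0x20c000ea0008380002004, nat_lit 0xe4000840000a403, nat_lit 0x840002ec02, nat_lit 0x8500002002, nat_lit 0x3c0008600035c03, nat_lit 0x8600039002, nat_lit 0x890000f002, nat_lit 0x1d0000900001c000060008800001c001620000f000128000ec0a, nat_lit 0x3e0008b0000cc03, nat_lit 0x440007980011403, nat_lit 0x11800064000ed0001980011c05, nat_lit 0x12000068000cb000128000e405, nat_lit 0x4a0007a80012c03, nat_lit 0x4a0001a0000dc03, nat_lit 0x13001, nat_lit 0x9300013002, nat_lit 0x9100012800068000cb0005b0000940007200128000900001200a,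 nat_lit 0x124000958000d003, nat_lit 0xf60009680032c03, nat_lit 0x25c000ee0009780003804, nat_lit 0x240009880001803, nat_lit 0x3a0009980044403, nat_lit 0xc001340008c8004d404, nat_lit 0xc0009b80000803, nat_lit 0x1150009c00007c03, nat_lit 0x9d00045802, nat_lit 0x9d00045402, nat_lit 0x3e0009d8000cc03, nat_lit 0xa000046c02, nat_lit 0x13800088001430002280013c05, nat_lit 0x28000110001e6000320009f80043c0027c00033000228001440a, nat_lit 0x520008e80014c03, nat_lit 0x520002200011c03, nat_lit 0x15001, nat_lit 0xa600015002, nat_lit 0xa40001480008800142000790001140009e0014e000a28001380a, nat_lit 0x14a000a880011003, nat_lit 0x2a40011e000a98000c804, nat_lit 0x44000aa8004fc03, nat_lit 0x50000ab80043c03, nat_lit 0x27e00158000a380056404, nat_lit 0x40015a0009e80056c04, nat_lit 0x180057402, nat_lit 0x560005580015c03, nat_lit 0x160000ac0015f0002b80016405, nat_lit 0x5a000b080016c03, nat_lit 0x5c000b080017403, nat_lit 0x17801, nat_lit 0xb400017802, nat_lit 0xb3000170000ac0015e0005500015c000b20016a000b18001600a, nat_lit 0xb600017002, nat_lit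 0x15c000b20016a000b1800160002c200056000af8002ac09, nat_lit 0x60000b580018403, nat_lit 0x600002c00016c03, nat_lit 0x62000b280018c03, nat_lit 0x190000b40016f0002d80019405, nat_lit 0x66000b980019c03, nat_lit 0x68000ba80019403, nat_lit 0x6c000bb8001b403, nat_lit 0x1b8000cc00175000318001ac05, nat_lit 0x70000bd8001c403, nat_lit 0x70000330001a403, nat_lit 0x1c801, nat_lit 0xc30001c802, nat_lit 0xc10001c0000cc00175000b200018c000d600188000c00001b80a, nat_lit 0x184000c580019803, nat_lit 0x17c000c68005d403, nat_lit 0x31c00178000c780016804, nat_lit 0x62000c880015803, nat_lit 0xc800016802, nat_lit 0xc90001b402, nat_lit 0x196000af80065c03, nat_lit 0x74000bf8001d403, nat_lit 0x1d80032c00171000cb8001dc05, nat_lit 0x1e0000e8001990003a8001e405, nat_lit 0x3d0001d0002fe001960002b800654000ac001970003a8001ec0a, nat_lit 0x7c000cd8001f403, nat_lit 0x7c0003a0001dc03, nat_lit 0x1f801, nat_lit 0xd30001f802, nat_lit 0xd10001f0000e800198000bf0001d4000f2001a8000cf8001e00a, nat_lit 0x1a4000d58001d003, nat_lit 0x3580019c000d680065804, nat_lit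 0x74000d780015c03, nat_lit 0x7a000d880065403, nat_lit 0x364001a0000d980015804, nat_lit 0x2b8006d402, nat_lit 0x6d8002bc000aa000db00057800154001b6000af8002ac09, nat_lit 0x800005580020403, nat_lit 0x80000af80020403, nat_lit 0x82000dd80020c03, nat_lit 0x21000100001b90004080021405, nat_lit 0x21800104001bd0004180021c05, nat_lit 0x88000df80022403, nat_lit 0x880004100021403, nat_lit 0x22801, nat_lit 0xe400022802, nat_lit 0xe200022000104001bc000dd00020c0010e001ca000e18002180a, nat_lit 0x1c6000e680020803, nat_lit 0x39c001c0000e780020004, nat_lit 0x4080074402, nat_lit 0x8c0005580023403, nat_lit 0x8c000af80023403, nat_lit 0x8c000dc80023403, nat_lit 0x8e000ea80023c03, nat_lit 0x8e000eb80023c03, nat_lit 0x23800118001d30004680023c05, nat_lit 0x90000ed80024403, nat_lit 0x92000ef80024c03, nat_lit 0x2480011c001d90004780024c05, nat_lit 0x25000120001dd0004880025405, nat_lit 0x96000f080025c03, nat_lit 0x960004800024c03, nat_lit 0x26001, nat_lit 0xf600026002, nat_lit 0xf400025800120001dc000ed0002440012a001ee000f38002500a, nat_lit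 0x1ea000f880024003, nat_lit 0x3e4001e4000f980023804, nat_lit 0xfa0007c8003c4001f3000fa80023006, nat_lit 0x468007dc02, nat_lit 0x9a0005580026c03, nat_lit 0x9a000af80026c03, nat_lit 0x9a000dc80026c03, nat_lit 0x9c000fd80027403, nat_lit 0x9c000fe80027403, nat_lit 0x27000134001d30004d80027405, nat_lit 0x9e0010080027c03, nat_lit 0xa00010280028403, nat_lit 0x28000138001ff0004e80028405, nat_lit 0x2880013c002030004f80028c05, nat_lit 0xa40010380029403, nat_lit 0xa40004f00028403, nat_lit 0x29801, nat_lit 0x10900029802, nat_lit 0x1070002900013c002020010000027c0014600214001068002880a, nat_lit 0x2100010b80027803, nat_lit 0x4300020a0010c80027004, nat_lit 0x10d00086000410002190010d80026806, nat_lit 0x4d80087402]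
theorem st0 : band (steps F IV RT base st0_l 84) (Nat.beq (Nat.add 84 (llen st0_l)) 272) = true := by decide +kernel

theorem ep0a : T.treePath [] (Nat.shiftLeft 1 0) 1 = true := by decide +kernel

theorem ep0b : T.treePath [] (Nat.shiftLeft 1 0) 1 = true := by decide +kernel

theorem ep0c : band (lall (fun z => Nat.ble z 255) ([] ++ 1 :: [])) (concl F IV 272 0x2a801 (encA ([] ++ 1 :: []) 0)) = true := by decide +kernel

theorem ep0d : band (Rule.ok (2 * 7) EX [] ⟨lapp [] [], [], 0, false⟩) (band (lall (memL L) []) (lall (memL L) [])) = true := by decide +kernel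

theorem cov1 : T.cover 1 [(Nat.shiftLeft 1 0)] = true := by decide +kernel

theorem tl1 : Nat.beq (T.let 1).tt 0 = true := by decide +kernel

theorem ep1a : T.treePath [] (Nat.shiftLeft 1 0) 1 = true := by decide +kernel

theorem ep1b : T.treePath [] (Nat.shiftLeft 1 0) 1 = true := by decide +kernel

theorem ep1c : band (lall (fun z => Nat.ble z 255) ([] ++ 2 :: [])) (concl F IV 272 0x57801 (encA ([] ++ 2 :: []) 0)) = true := by decide +kernel

theorem ep1d : band (Rule.ok (2 * 7) EX [] ⟨lapp [] [], [], 0, false⟩) (band (lall (memL L) []) (lall (memL L) [])) = true := by decide +kernel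

theorem cov2 : T.cover 2 [(Nat.shiftLeft 1 0)] = true := by decide +kernel

theorem tl2 : Nat.beq (T.let 2).tt 0 = true := by decide +kernel

theorem ep2a : T.treePath [] (Nat.shiftLeft 1 0) 1 = true := by decide +kernel

theorem ep2b : T.treePath [] (Nat.shiftLeft 1 0) 1 = true := by decide +kernel

theorem ep2c : band (lall (fun z => Nat.ble z 255) ([] ++ 3 :: [])) (concl F IV 272 0x6d801 (encA ([] ++ 3 :: []) 0)) = true := by decide +kernel

theorem ep2d : band (Rule.ok (2 * 7) EX [] ⟨lapp [] [], [], 0, false⟩) (band (lall (memL L) []) (lall (memL L) [])) = true := by decide +kernel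

theorem cov3 : T.cover 3 [(Nat.shiftLeft 1 0)] = true := by decide +kernel

theorem tl3 : Nat.beq (T.let 3).tt 0 = true := by decide +kernel

theorem ep3a : T.treePath [] (Nat.shiftLeft 1 0) 1 = true := by decide +kernel

theorem ep3b : T.treePath [] (Nat.shiftLeft 1 0) 1 = true := by decide +kernel

theorem ep3c : band (lall (fun z => Nat.ble z 255) ([] ++ 4 :: [])) (concl F IV 272 0x74801 (encA ([] ++ 4 :: []) 0)) = true := by decide +kernel

theorem ep3d : band (Rule.ok (2 * 7) EX [] ⟨lapp [] [], [], 0, false⟩) (band (lall (memL L) []) (lall (memL L) [])) = true := by decide +kernel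

theorem cov4 : T.cover 4 [(Nat.shiftLeft 1 0)] = true := by decide +kernel

theorem tl4 : Nat.beq (T.let 4).tt 0 = true := by decide +kernel

theorem rot5_1 : T.rot 5 [1, 2, 3, 1, 2, 3, 1, 2, 3] (sel (ones 1) ip5 1) = true := by decide +kernel

theorem rot5_1r : band (Rule.ok (2 * 7) EX RL ⟨5 :: [1, 2, 3, 1, 2, 3, 1, 2, 3], [8], 22, true⟩) (lall (memL L) [1, 2, 3, 1, 2, 3, 1, 2, 3]) = true := by decide +kernel

theorem cov5 : T.cover 5 [(sel (ones 1) ip5 1)] = true := by decide +kernel

theorem tl5 : Nat.beq (T.let 5).tt 0 = true := by decide +kernel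

theorem ep4a : T.treePath [] (Nat.shiftLeft 1 0) 1 = true := by decide +kernel

theorem ep4b : T.treePath [] (Nat.shiftLeft 1 0) 1 = true := by decide +kernel

theorem ep4c : band (lall (fun z => Nat.ble z 255) ([] ++ 6 :: [])) (concl F IV 272 0x7e001 (encA ([] ++ 6 :: []) 0)) = true := by decide +kernel

theorem ep4d : band (Rule.ok (2 * 7) EX [] ⟨lapp [] [], [], 0, false⟩) (band (lall (memL L) []) (lall (memL L) [])) = true := by decide +kernel

theorem cov6 : T.cover 6 [(Nat.shiftLeft 1 0)] = true := by decide +kernel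

theorem tl6 : Nat.beq (T.let 6).tt 0 = true := by decide +kernel

theorem ep5a : T.treePath [] (Nat.shiftLeft 1 0) 1 = true := by decide +kernel

theorem ep5b : T.treePath [] (Nat.shiftLeft 1 0) 1 = true := by decide +kernel

theorem ep5c : band (lall (fun z => Nat.ble z 255) ([] ++ 7 :: [])) (concl F IV 272 0x87801 (encA ([] ++ 7 :: []) 0)) = true := by decide +kernel

theorem ep5d : band (Rule.ok (2 * 7) EX [] ⟨lapp [] [], [], 0, false⟩) (band (lall (memL L) []) (lall (memL L) [])) = true := by decide +kernel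

theorem cov7 : T.cover 7 [(Nat.shiftLeft 1 0)] = true := by decide +kernel

theorem tl7 : Nat.beq (T.let 7).tt 0 = true := by decide +kernel

end Cfsg.Agent.Spor.HeN1
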